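import Cfsg.Agent.H617.Pb.Defs
import Cfsg.Agent.Blocks.Local
import Cfsg.Agent.Characters.Core

/-!
# S4822, B3a: `eps` and quotients (helper55)

* `infl_mem` : inflation of the principal block along a surjective homomorphism;
* `exists_regular_lift` : `p`-regular elements lift to `p`-regular elements;
* `eps_map` : the invariants of a quotient inject.
-/

set_option autoImplicit false
open Cfsg Cfsg.Agent.H617.Pb

universe u v w

namespace Cfsg.Agent.H55.Pb

/-- inflation of the principal block -/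
theorem infl_mem {H : Type u} [Group H] [Finite H] {Q : Type v} [Group Q] {p : ℕ} {M : Ideal AlgInt}
    (hM : IsPModular p M) {π : H →* Q} (hπ : Function.Surjective π) {ψ : IrrCharacter Q}
    (hψ : ψ ∈ principalBlock M Q) {ψ' : IrrCharacter H} (he : ∀ x, (ψ' : H → ℂ) x = (ψ : Q → ℂ) (π x)) :
    ψ' ∈ principalBlock M H := by
  have hMp := Cfsg.Agent.Blocks.Local.isPrime_of_isPModular hM
  intro x
  have h1 := hψ (π x)
  have h2 : (Subgroup.centralizer ({π x} : Set Q)).index ∣
      (Subgroup.centralizer ({x} : Set H)).index := by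
    rw [← Subgroup.index_comap_of_surjective _ hπ]
    refine Subgroup.index_dvd_of_le fun y hy => ?_
    rw [Subgroup.mem_centralizer_singleton_iff] at hy
    rw [Subgroup.mem_comap, Subgroup.mem_centralizer_singleton_iff, ← map_mul, ← map_mul, hy]
  obtain ⟨k, hk⟩ := h2
  have h3 := Cfsg.Agent.Blocks.Local.memLocalIdeal_mul_left
    (Cfsg.Agent.Blocks.Local.memLocalRing_natCast (M := M) k) h1
  convert h3 using 1
  unfold centralChar
  rw [he, he, map_one, hk]
  push_cast
  ring

/-- `p`-regular elements lift to `p`-regular elements -/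
theorem exists_regular_lift {H : Type u} [Group H] [Finite H] {Q : Type v} [Group Q] {p : ℕ} [hp : Fact p.Prime]
    (π : H →* Q) (x : H) (hx : ¬ p ∣ orderOf (π x)) : ∃ y : H, ¬ p ∣ orderOf y ∧ π y = π x := by
  obtain ⟨a, m, hm, hxo⟩ := Nat.exists_eq_pow_mul_and_not_dvd (orderOf_pos x).ne' p hp.out.ne_one
  have hcop : Nat.Coprime (p ^ a) m := (Nat.Prime.coprime_iff_not_dvd hp.out |>.2 hm).pow_left a
  obtain ⟨k, hk1, hk2⟩ := Nat.chineseRemainder hcop 0 1
  have hd : orderOf (π x) ∣ m := by
    have h1 : orderOf (π x) ∣ p ^ a * m := by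
      rw [← hxo]
      exact orderOf_map_dvd π x
    exact Nat.Coprime.dvd_of_dvd_mul_left
      (Nat.Coprime.pow_right a (Nat.coprime_comm.1 ((Nat.Prime.coprime_iff_not_dvd hp.out).2 hx))) h1
  refine ⟨x ^ k, ?_, ?_⟩
  · intro h
    apply hm
    refine h.trans (orderOf_dvd_of_pow_eq_one ?_)
    rw [← pow_mul]
    apply orderOf_dvd_iff_pow_eq_one.1
    rw [hxo]
    exact mul_dvd_mul (Nat.modEq_zero_iff_dvd.1 hk1) dvd_rfl
  · rw [map_pow]
    have h1 : k ≡ 1 [MOD orderOf (π x)] := hk2.of_dvd hd
    have h2 := pow_eq_pow_iff_modEq.2 h1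
    rw [h2, pow_one]

/-- the functions in `Br` vanish on the `p`-singular elements -/
theorem br_apply_eq_zero {p : ℕ} {M : Ideal AlgInt} {Y : Type v} [Group Y] {N : Subgroup Y} {φ : ↥N → ℂ} (h : φ ∈ Br p M N) {x : ↥N}
    (hx : ¬ IsPRegular p x) : φ x = 0 := by
  unfold Br at h
  induction h using Submodule.span_induction with
  | mem ψ hψ =>
    obtain ⟨χ, -, rfl⟩ := hψ
    show pRegularPart p _ x = 0
    unfold pRegularPart
    rw [if_neg hx]
  | zero => rfl
  | add a b _ _ ha hb => rw [Pi.add_apply, ha, hb, add_zero]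
  | smul r a _ ha => rw [Pi.smul_apply, ha, smul_zero]

/-- B3a: quotients -/
theorem eps_map {Γ : Type u} [Group Γ] [Finite Γ] {p : ℕ} [Fact p.Prime] {M : Ideal AlgInt} {Y : Type v} [Group Y] [Finite Y] (hM : IsPModular p M) (N C : Subgroup Γ) (hNC : N ≤ C)
    (hn : ∀ c ∈ C, ∀ x ∈ N, c * x * c⁻¹ ∈ N) (f : ↥C →* Y) :
    eps p M ((N.subgroupOf C).map f) f.range ≤ eps p M N C := by
  classical
  -- the surjective homomorphism `N → f N`
  let g : ↥N →* ↥((N.subgroupOf C).map f) :=
    (f.comp (Subgroup.inclusion hNC)).codRestrict _ fun x =>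
      ⟨Subgroup.inclusion hNC x, Subgroup.mem_subgroupOf.2 x.2, rfl⟩
  have hg : ∀ x : ↥N, ((g x : ↥((N.subgroupOf C).map f)) : Y) = f ⟨x, hNC x.2⟩ := fun x => rfl
  have hgs : Function.Surjective g := by
    rintro ⟨y, c, hc, rfl⟩
    refine ⟨⟨c, Subgroup.mem_subgroupOf.1 hc⟩, Subtype.ext ?_⟩
    rw [hg]
  -- the map
  let T : (↥((N.subgroupOf C).map f) → ℂ) →ₗ[ℂ] (↥N → ℂ) :=
    { toFun := fun φ x => if IsPRegular p x then φ (g x) else 0
      map_add' := fun a b => by
        funext x
        simp only [Pi.add_apply]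
        split_ifs
        · rfl
        · rw [add_zero]
      map_smul' := fun r a => by
        funext x
        simp only [Pi.smul_apply, RingHom.id_apply]
        split_ifs
        · rfl
        · rw [smul_zero] }
  have hT : ∀ φ x, T φ x = if IsPRegular p x then φ (g x) else 0 := fun _ _ => rfl
  have hBr : ∀ φ ∈ Br p M ((N.subgroupOf C).map f), T φ ∈ Br p M N := by
    intro φ hφ
    unfold Br at hφ
    induction hφ using Submodule.span_induction with
    | mem ψ hψ =>
      obtain ⟨χ, hχ, rfl⟩ := hψ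
      let χ' : IrrCharacter ↥N := ⟨(χ : ↥((N.subgroupOf C).map f) → ℂ) ∘ g,
        Cfsg.Agent.Characters.Core.isIrr_comp g hgs χ.2⟩
      refine Submodule.subset_span ⟨χ', infl_mem hM hgs hχ (fun x => rfl), ?_⟩
      funext x
      rw [hT]
      show (if IsPRegular p x then (χ : ↥((N.subgroupOf C).map f) → ℂ) (g x) else 0) =
        if IsPRegular p x then (if IsPRegular p (g x) then (χ : ↥((N.subgroupOf C).map f) → ℂ) (g x) else 0) else 0
      by_cases hx : IsPRegular p x
      · rw [if_pos hx, if_pos hx]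
        have hgx : IsPRegular p (g x) := fun h => hx (h.trans (orderOf_map_dvd g x))
        rw [if_pos hgx]
      · rw [if_neg hx, if_neg hx]
    | zero =>
      rw [map_zero]
      exact Submodule.zero_mem _
    | add a b _ _ ha hb =>
      rw [map_add]
      exact Submodule.add_mem _ ha hb
    | smul r a _ ha =>
      rw [map_smul]
      exact Submodule.smul_mem _ _ ha
  have hInv : ∀ φ ∈ Inv p M ((N.subgroupOf C).map f) f.range, T φ ∈ Inv p M N C := by
    intro φ hφ
    refine ⟨hBr φ hφ.1, ?_⟩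
    intro c hc x y hxy
    rw [hT, hT]
    have ho : IsPRegular p y ↔ IsPRegular p x := by
      have h1 : orderOf y = orderOf x := by
        rw [← Subgroup.orderOf_coe, ← Subgroup.orderOf_coe, hxy]
        exact orderOf_injective (MulAut.conj c).toMonoidHom (MulAut.conj c).injective (x : Γ)
      unfold IsPRegular
      rw [h1]
    by_cases hx : IsPRegular p x
    · rw [if_pos hx, if_pos (ho.2 hx)]
      refine hφ.2 (f ⟨c, hc⟩) ⟨_, rfl⟩ _ _ ?_
      rw [hg, hg, ← map_mul, ← map_inv, ← map_mul]
      congr 1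
      exact Subtype.ext hxy
    · rw [if_neg hx, if_neg (fun h => hx (ho.1 h))]
  let T' : ↥(Inv p M ((N.subgroupOf C).map f) f.range) →ₗ[ℂ] ↥(Inv p M N C) :=
    T.restrict hInv
  have hinj : Function.Injective T' := by
    rw [← LinearMap.ker_eq_bot, LinearMap.ker_eq_bot']
    rintro ⟨φ, hφ⟩ h
    apply Subtype.ext
    have h1 : T φ = 0 := congrArg Subtype.val h
    funext y
    show φ y = 0
    by_cases hy : IsPRegular p y
    · obtain ⟨x, rfl⟩ := hgs y
      obtain ⟨x', hx', hxx⟩ := exists_regular_lift g x hy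
      have h2 := congrFun h1 x'
      rw [hT, if_pos (show IsPRegular p x' from hx'), hxx] at h2
      exact h2
    · exact br_apply_eq_zero hφ.1 hy
  have hfin : FiniteDimensional ℂ (↥N → ℂ) := inferInstance
  exact LinearMap.finrank_le_finrank_of_injective hinj

end Cfsg.Agent.H55.Pb
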